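import Cfsg.Agent.H138.FR.Parts
import Cfsg.Agent.H76.FR.Red

/-!
# S4970, FR-MIX: final form (field `mix` of `Cfsg.Agent.H659.FRAsm.Inputs2`)
-/

set_option autoImplicit false

universe u

namespace Cfsg.Agent.H138.FR

open Cfsg Cfsg.Agent.H721.FR Module

/-- **FR-MIX** -/
theorem cov_mix_final {F V : Type u} [Field F] [Finite F] [AddCommGroup V] [Module F V] [FiniteDimensional F V]
    {B : V →ₗ[F] V →ₗ[F] F} {ε : F} (hF : Fm B ε) (hI : ∀ m < finrank F V, Hyp.{u} m)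
    {c : V ≃ₗ[F] V} {P : Subgroup (V ≃ₗ[F] V)} (hc : c ∈ Isom B) (ho : Odd (orderOf c))
    (hs : (orderOf c : F) = 0) (hu : ¬ ∃ a : ℕ, c ^ (ringChar F) ^ a = 1) (hex : ∃ g ∈ P, g * c * g⁻¹ = c⁻¹)
    (hP : Mx B c P) : Cov B ε c P := by
  rcases cov_mix_top hF hI hc ho hP.le hP.two hP.act hex with h | ⟨-, h, -⟩ | ⟨-, h⟩ | h | h
  · exact absurd ⟨0, by rw [h, one_pow]⟩ hu
  · exact absurd h hu
  · exact absurd hs h
  · exact Cfsg.Agent.H76.FR.cov_of_red hF hI hc hP.le h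
  · exact h

end Cfsg.Agent.H138.FR
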