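import Cfsg.Agent.H138.FR.Cover
import Cfsg.Agent.H839.FR.IndexTwo
import Cfsg.Agent.H619.FR.Cls

/-!
# S4970: subgroups of index two of totally good groups, and the fibre product trick
-/

set_option autoImplicit false

universe u

namespace Cfsg.Agent.H138.FR

open Cfsg Cfsg.Agent.H721.FR
open Cfsg.Agent.Characters.Core
open Cfsg.Agent.H955.FS (fsi FSGood fsi_cases fsi_spec)
open scoped ComplexConjugate

/-- a subgroup of index two of a totally good group has no indicator `-1` -/
theorem good_true_index_two {G : Type u} [Group G] [Finite G] (N : Subgroup G) (hN : N.index = 2)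
    (h : FSGood False G) : FSGood True N := by
  classical
  have := Fintype.ofFinite G
  have := Fintype.ofFinite N
  intro ψ hψ
  rcases fsi_cases hψ with h1 | h1 | h1
  · exact Or.inr ⟨trivial, h1⟩
  · exact Or.inl h1
  exfalso
  obtain ⟨χ, hχ, hm⟩ := Cfsg.Agent.H839.FR.exists_over_index_two N hN hψ
  have hν : fsi χ = 1 := by
    rcases h χ hχ with h1 | h1
    · exact h1
    · exact h1.1.elim
  have hχr : ∀ g, (χ g).im = 0 := Cfsg.Agent.H955.FS.real_of_fsi_ne_zero hχ (by rw [hν]; exact one_ne_zero)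
  have hψr : ∀ g, (ψ g).im = 0 := Cfsg.Agent.H955.FS.real_of_fsi_ne_zero hψ (by rw [h1]; norm_num)
  have h2 : Even 1 := by
    refine even_mult hχ hχr N hψ (fun x => Complex.conj_eq_iff_im.2 (hψr x)) ?_ (m := 1) (by rw [hm, Nat.cast_one])
    rw [← Cfsg.Agent.H955.FS.Parity.fsi_eq_nu, ← Cfsg.Agent.H955.FS.Parity.fsi_eq_nu, hν, h1]
    norm_num
  exact absurd h2 (by decide)

/-- the same for an index at most two -/
theorem good_true_of_le {G : Type u} [Group G] [Finite G] (N : Subgroup G) (hN : ∀ a b, a ∉ N → b ∉ N → a * b ∈ N)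
    (h : FSGood False G) : FSGood True N := by
  by_cases h1 : ∀ a, a ∈ N
  · have h2 : N = ⊤ := (Subgroup.eq_top_iff' N).2 h1
    subst h2
    exact (h.mono fun h => h.elim).of_mulEquiv Subgroup.topEquiv.symm
  · push Not at h1
    obtain ⟨a, ha⟩ := h1
    refine good_true_index_two N ?_ h
    rw [Subgroup.index_eq_two_iff]
    refine ⟨a, fun b => ?_⟩
    by_cases hb : b ∈ N
    · refine Or.inr ⟨hb, fun h2 => ha ?_⟩
      have h3 := mul_mem (inv_mem hb) h2
      rwa [inv_mul_cancel_left] at h3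
    · exact Or.inl ⟨hN b a hb ha, hb⟩

/-- **the fibre trick**: `D` and `E` commuting totally good groups in `Γ`; the elements of `D E` multiply some
structure with stabiliser `H` by a sign -/
theorem good_fibre {Γ : Type u} [Group Γ] (D E H : Subgroup Γ) [Finite D] [Finite E]
    (hDE : ∀ d ∈ D, ∀ e ∈ E, d * e = e * d) (hD : FSGood False D) (hE : FSGood False E)
    (hH : ∀ a ∈ D ⊔ E, ∀ b ∈ D ⊔ E, a ∉ H → b ∉ H → a * b ∈ H) :
    ∃ Y : Subgroup Γ, Y ≤ H ∧ (∀ d ∈ D, ∀ e ∈ E, d * e ∈ H → d * e ∈ Y) ∧ FSGood True Y := by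
  let f : D × E →* Γ := MonoidHom.noncommCoprod D.subtype E.subtype (fun d e => hDE d d.2 e e.2)
  have hf : ∀ x : D × E, f x = (x.1 : Γ) * x.2 := fun x => rfl
  have hle : f.range ≤ D ⊔ E := by
    rintro _ ⟨x, rfl⟩
    rw [hf]
    exact mul_mem (Subgroup.mem_sup_left x.1.2) (Subgroup.mem_sup_right x.2.2)
  have hX : FSGood False f.range := (FSGood.prod hD hE).of_surjective f.rangeRestrict f.rangeRestrict_surjective
  have : Finite f.range := Finite.of_surjective f.rangeRestrict f.rangeRestrict_surjective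
  have h1 : FSGood True ((f.range ⊓ H).subgroupOf f.range) := by
    refine good_true_of_le _ (fun a b ha hb => ?_) hX
    rw [Subgroup.mem_subgroupOf] at ha hb ⊢
    have ha' : (a : Γ) ∉ H := fun h => ha ⟨a.2, h⟩
    have hb' : (b : Γ) ∉ H := fun h => hb ⟨b.2, h⟩
    exact ⟨(a * b).2, hH a (hle a.2) b (hle b.2) ha' hb'⟩
  refine ⟨f.range ⊓ H, inf_le_right, fun d hd e he h => ⟨⟨(⟨d, hd⟩, ⟨e, he⟩), hf _⟩, h⟩, ?_⟩
  exact h1.of_mulEquiv (Subgroup.subgroupOfEquivOfLe inf_le_left)

/-- groups with a commutative part and an inverting involution -/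
theorem good_dih {Γ : Type u} [Group Γ] (A : Subgroup Γ) (hA : ∀ a ∈ A, ∀ b ∈ A, a * b = b * a) {t : Γ}
    (ht2 : t * t = 1) (htA : ∀ a ∈ A, t * a * t⁻¹ = a⁻¹) [Finite A] :
    ∃ Y : Subgroup Γ, Finite Y ∧ (∀ y, y ∈ Y ↔ y ∈ A ∨ y * t ∈ A) ∧ FSGood False Y := by
  have hti : t⁻¹ = t := inv_eq_of_mul_eq_one_left ht2
  have htA' : ∀ a ∈ A, t * a * t ∈ A := by
    intro a ha
    have h1 := htA a ha
    rw [hti] at h1
    rw [h1]
    exact inv_mem ha
  let Y : Subgroup Γ :=
    { carrier := {x | x ∈ A ∨ x * t ∈ A}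
      one_mem' := Or.inl A.one_mem
      mul_mem' := by
        rintro x y (hx | hx) (hy | hy)
        · exact Or.inl (A.mul_mem hx hy)
        · right
          rw [mul_assoc]
          exact A.mul_mem hx hy
        · right
          have h1 : x * y * t = (x * t) * (t * y * t) := by
            calc x * y * t = x * 1 * y * t := by rw [mul_one]
              _ = x * (t * t) * y * t := by rw [ht2]
              _ = _ := by group
          rw [h1]
          exact A.mul_mem hx (htA' y hy)
        · left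
          have h1 : x * y = (x * t) * (t * (y * t) * t) := by
            calc x * y = x * 1 * y * 1 := by rw [mul_one, mul_one]
              _ = x * (t * t) * y * (t * t) := by rw [ht2]
              _ = _ := by group
          rw [h1]
          exact A.mul_mem hx (htA' _ hy)
      inv_mem' := by
        rintro x (hx | hx)
        · exact Or.inl (A.inv_mem hx)
        · right
          have h1 : x⁻¹ * t = t * (x * t)⁻¹ * t := by
            rw [mul_inv_rev, hti]
            calc x⁻¹ * t = 1 * x⁻¹ * t := by rw [one_mul]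
              _ = (t * t) * x⁻¹ * t := by rw [ht2]
              _ = _ := by group
          rw [h1]
          exact htA' _ (A.inv_mem hx) }
  have hY : ∀ y, y ∈ Y ↔ y ∈ A ∨ y * t ∈ A := fun y => Iff.rfl
  have hfin : Finite Y := by
    have h5 : (Y : Set Γ) ⊆ (A : Set Γ) ∪ (fun x => x * t⁻¹) '' (A : Set Γ) := by
      rintro x (hx | hx)
      · exact Or.inl hx
      · exact Or.inr ⟨x * t, hx, by simp⟩
    exact (((Set.toFinite (A : Set Γ)).union ((Set.toFinite (A : Set Γ)).image _)).subset h5).to_subtype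
  refine ⟨Y, hfin, hY, ?_⟩
  have htY : t ∈ Y := Or.inr (by rw [ht2]; exact A.one_mem)
  have hE : ∀ e ∈ Subgroup.zpowers t, e = 1 ∨ e = t := by
    intro e he
    obtain ⟨i, rfl⟩ := Subgroup.mem_zpowers_iff.1 he
    rcases Int.even_or_odd' i with ⟨j, rfl | rfl⟩
    · left
      rw [zpow_mul, zpow_ofNat, pow_two, ht2, one_zpow]
    · right
      rw [zpow_add, zpow_mul, zpow_ofNat, pow_two, ht2, one_zpow, one_mul, zpow_one]
  refine Cfsg.Agent.H619.FR.fsGood_cls_amb (A := A) (E := Subgroup.zpowers t) (t := t) (fun a ha => Or.inl ha)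
    ((Subgroup.zpowers_le).2 htY) ?_ hA ?_ ?_ (Subgroup.mem_zpowers t) htA
  · rintro y (hy | hy) a ha
    · exact mul_mem (mul_mem hy ha) (inv_mem hy)
    · have h1 : y * a * y⁻¹ = (y * t) * (t * a * t) * (y * t)⁻¹ := by
        rw [mul_inv_rev, hti]
        calc y * a * y⁻¹ = y * 1 * a * 1 * y⁻¹ := by rw [mul_one, mul_one]
          _ = y * (t * t) * a * (t * t) * y⁻¹ := by rw [ht2]
          _ = _ := by group
      rw [h1]
      exact mul_mem (mul_mem hy (htA' a ha)) (inv_mem hy)
  · intro e he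
    rcases hE e he with rfl | rfl
    · rw [one_mul]
    · exact ht2
  · rintro y (hy | hy)
    · exact ⟨y, hy, 1, one_mem _, (mul_one y).symm⟩
    · refine ⟨y * t, hy, t, Subgroup.mem_zpowers t, ?_⟩
      rw [mul_assoc, ht2, mul_one]

end Cfsg.Agent.H138.FR
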