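import Cfsg.Agent.H957.FROne2

/-!
# S4970: `Red` in terms of isometric involutions
-/

set_option autoImplicit false

universe u

namespace Cfsg.Agent.H138.FR

open Cfsg.Agent.H721.FR Cfsg.Agent.H721.SR Cfsg.Agent.H957.FR Module

variable {F V : Type u} [Field F] [AddCommGroup V] [Module F V] {B : V →ₗ[F] V →ₗ[F] F} {ε : F}

/-- the orthogonal decomposition -/
theorem isCompl_perp [FiniteDimensional F V] (hε : ε ≠ 0) (hsymm : ∀ x y, B x y = ε * B y x) {U : Submodule F V}
    (hU : NdOn B U) : IsCompl U (perp B U) := by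
  have hrefl : ∀ x y, B x y = 0 → B y x = 0 := by
    intro x y h
    rw [hsymm x y] at h
    exact (mul_eq_zero.1 h).resolve_left hε
  have h1 : LinearMap.BilinForm.orthogonal (B : LinearMap.BilinForm F V) U = perp B U := by
    ext x
    rfl
  rw [← h1]
  refine LinearMap.BilinForm.isCompl_orthogonal_of_restrict_nondegenerate (fun x y h => hrefl x y h) ?_
  refine ⟨?_, ?_⟩
  · intro x hx
    apply Subtype.ext
    exact hU x x.2 fun y hy => hx ⟨y, hy⟩
  · intro x hx
    apply Subtype.ext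
    exact hU x x.2 fun y hy => hrefl _ _ (hx ⟨y, hy⟩)

/-- an orthogonal decomposition gives an isometric involution -/
theorem exists_invol [FiniteDimensional F V] (h2 : (2 : F) ≠ 0) (hε : ε ≠ 0) (hsymm : ∀ x y, B x y = ε * B y x)
    {U : Submodule F V} (hU : NdOn B U) (hU0 : U ≠ ⊥) (hU1 : U ≠ ⊤) :
    ∃ t : V ≃ₗ[F] V, t ∈ Isom B ∧ t * t = 1 ∧ t ≠ 1 ∧ t ≠ LinearEquiv.neg F ∧ (∀ x, x ∈ U ↔ t x = x) ∧
      (∀ x, x ∈ perp B U ↔ t x = -x) := by
  have hC := isCompl_perp hε hsymm hU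
  have hdec : ∀ x : V, ∃ a ∈ U, ∃ b ∈ perp B U, a + b = x := fun x =>
    Submodule.mem_sup.1 (by rw [hC.sup_eq_top]; trivial)
  have huniq : ∀ x ∈ U, x ∈ perp B U → x = 0 := fun x h1 h2 => by
    have h3 : x ∈ U ⊓ perp B U := ⟨h1, h2⟩
    rw [hC.inf_eq_bot] at h3
    exact h3
  have horth : ∀ a ∈ U, ∀ b ∈ perp B U, B a b = 0 ∧ B b a = 0 := by
    intro a ha b hb
    have h1 : B a b = 0 := hb a ha
    exact ⟨h1, by rw [hsymm, h1, mul_zero]⟩
  let p : V →ₗ[F] V := U.subtype ∘ₗ Submodule.projectionOnto U (perp B U) hC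
  have hp1 : ∀ x ∈ U, p x = x := by
    intro x hx
    exact congrArg Subtype.val (Submodule.projectionOnto_apply_left hC ⟨x, hx⟩)
  have hp2 : ∀ x ∈ perp B U, p x = 0 := by
    intro x hx
    exact congrArg Subtype.val (Submodule.projectionOnto_apply_right hC ⟨x, hx⟩)
  let q : V →ₗ[F] V := (2 : F) • p - LinearMap.id
  have hq1 : ∀ x ∈ U, q x = x := by
    intro x hx
    change (2 : F) • p x - x = x
    rw [hp1 x hx, two_smul]
    abel
  have hq2 : ∀ x ∈ perp B U, q x = -x := by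
    intro x hx
    change (2 : F) • p x - x = -x
    rw [hp2 x hx, smul_zero, zero_sub]
  have hqq : ∀ x, q (q x) = x := by
    intro x
    obtain ⟨a, ha, b, hb, rfl⟩ := hdec x
    rw [map_add, hq1 a ha, hq2 b hb, map_add, map_neg, hq1 a ha, hq2 b hb, neg_neg]
  let t : V ≃ₗ[F] V := LinearEquiv.ofInvolutive q hqq
  have ht : ∀ x, t x = q x := fun x => rfl
  have h22 : ∀ x : V, x = -x → x = 0 := by
    intro x hx
    have h3 : (2 : F) • x = 0 := by
      rw [two_smul]
      nth_rewrite 1 [hx]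
      exact neg_add_cancel x
    exact (smul_eq_zero.1 h3).resolve_left h2
  have hfix : ∀ x, x ∈ U ↔ t x = x := by
    intro x
    refine ⟨fun hx => hq1 x hx, fun hx => ?_⟩
    obtain ⟨a, ha, b, hb, rfl⟩ := hdec x
    rw [ht, map_add, hq1 a ha, hq2 b hb] at hx
    have h3 : b = 0 := h22 b (add_left_cancel hx).symm
    rw [h3, add_zero]
    exact ha
  have hneg : ∀ x, x ∈ perp B U ↔ t x = -x := by
    intro x
    refine ⟨fun hx => hq2 x hx, fun hx => ?_⟩
    obtain ⟨a, ha, b, hb, rfl⟩ := hdec x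
    rw [ht, map_add, hq1 a ha, hq2 b hb, neg_add] at hx
    have h3 : a = 0 := h22 a (add_right_cancel hx)
    rw [h3, zero_add]
    exact hb
  refine ⟨t, ?_, ?_, ?_, ?_, hfix, hneg⟩
  · intro x y
    obtain ⟨a, ha, b, hb, rfl⟩ := hdec x
    obtain ⟨c, hc, d, hd, rfl⟩ := hdec y
    rw [ht, ht, map_add q, map_add q, hq1 a ha, hq2 b hb, hq1 c hc, hq2 d hd]
    simp only [map_add, LinearMap.add_apply, map_neg, LinearMap.neg_apply]
    rw [(horth a ha d hd).1, (horth c hc b hb).2]
    ring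
  · apply LinearEquiv.ext
    intro x
    exact hqq x
  · intro h
    apply hU1
    rw [eq_top_iff]
    intro x _
    rw [hfix, h]
    rfl
  · intro h
    apply hU0
    rw [eq_bot_iff]
    intro x hx
    rw [hfix, h] at hx
    exact h22 x hx.symm

/-- **`Red` gives an isometric involution**, commuting up to sign with the group -/
theorem exists_invol_of_red [FiniteDimensional F V] (h2 : (2 : F) ≠ 0) (hε : ε ≠ 0)
    (hsymm : ∀ x y, B x y = ε * B y x) {K : Subgroup (V ≃ₗ[F] V)}
    (hK : ∀ g ∈ K, ∃ s : F, ∀ x y, B (g x) (g y) = s * B x y) (h : Red B K) :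
    ∃ t : V ≃ₗ[F] V, t ∈ Isom B ∧ t * t = 1 ∧ t ≠ 1 ∧ t ≠ LinearEquiv.neg F ∧
      ∀ g ∈ K, g * t * g⁻¹ = t ∨ g * t * g⁻¹ = t * LinearEquiv.neg F := by
  obtain ⟨U, hU0, hU1, hU, hUK⟩ := h
  obtain ⟨t, ht, htt, ht1, htn, hfix, hneg⟩ := exists_invol h2 hε hsymm hU hU0 hU1
  have hC := isCompl_perp hε hsymm hU
  have hdec : ∀ x : V, ∃ a ∈ U, ∃ b ∈ perp B U, a + b = x := fun x =>
    Submodule.mem_sup.1 (by rw [hC.sup_eq_top]; trivial)
  have hrefl : ∀ x y, B x y = 0 → B y x = 0 := by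
    intro x y h
    rw [hsymm x y] at h
    exact (mul_eq_zero.1 h).resolve_left hε
  refine ⟨t, ht, htt, ht1, htn, fun g hg => ?_⟩
  obtain ⟨s, hs⟩ := hK g hg
  rcases hUK g hg with h | h
  · left
    rw [mul_inv_eq_iff_eq_mul]
    apply LinearEquiv.ext
    intro x
    change g (t x) = t (g x)
    have h3 : ∀ a ∈ U, g a ∈ U := fun a ha => by
      rw [← h]
      exact ⟨a, ha, rfl⟩
    have h4 : ∀ b ∈ perp B U, g b ∈ perp B U := by
      intro b hb y hy
      rw [← h] at hy
      obtain ⟨y, hy, rfl⟩ := hy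
      change B (g y) (g b) = 0
      rw [hs, hb y hy, mul_zero]
    obtain ⟨a, ha, b, hb, rfl⟩ := hdec x
    rw [map_add t, (hfix a).1 ha, (hneg b).1 hb, map_add, map_add g, map_add t, (hfix _).1 (h3 a ha),
      (hneg _).1 (h4 b hb), map_neg]
  · right
    rw [mul_inv_eq_iff_eq_mul]
    apply LinearEquiv.ext
    intro x
    change g (t x) = t (-(g x))
    have h3 : ∀ a ∈ U, g a ∈ perp B U := fun a ha => by
      rw [← h]
      exact ⟨a, ha, rfl⟩
    have h4 : ∀ b ∈ perp B U, g b ∈ U := by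
      intro b hb
      obtain ⟨c, hc, d, hd, hcd⟩ := hdec (g b)
      have h5 : d = 0 := by
        -- `d ∈ perp U = g U`, orthogonal to `g b` and to `c`
        have h6 : d ∈ U.map (g : V →ₗ[F] V) := by rw [h]; exact hd
        obtain ⟨e, he, rfl⟩ := h6
        have h7 : e = 0 := by
          refine hU e he fun y hy => ?_
          have h8 : B (g y) (g b) = 0 := by rw [hs, hb y hy, mul_zero]
          have h9 : B (g y) (g e) = 0 := by
            have h10 : (g : V →ₗ[F] V) e = g b - c := by rw [← hcd]; abel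
            have h11 : g e = g b - c := h10
            rw [h11, map_sub, h8, hrefl _ _ (h3 y hy c hc), sub_zero]
          by_cases hs0 : s = 0
          · have h12 := hs (g⁻¹ e) (g⁻¹ y)
            have h13 : ∀ x, g (g⁻¹ x) = x := fun x => g.apply_symm_apply x
            rw [h13, h13, hs0, zero_mul] at h12
            exact h12
          · rw [hs] at h9
            exact hrefl _ _ ((mul_eq_zero.1 h9).resolve_left hs0)
        rw [h7]
        exact map_zero _
      rw [← hcd, h5, add_zero]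
      exact hc
    obtain ⟨a, ha, b, hb, rfl⟩ := hdec x
    rw [map_add t, (hfix a).1 ha, (hneg b).1 hb, map_add, map_add g, neg_add, map_add t, map_neg t, map_neg t,
      (hneg _).1 (h3 a ha), (hfix _).1 (h4 b hb), map_neg, neg_neg]

end Cfsg.Agent.H138.FR
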