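import Cfsg.Agent.H138.FR.MixA

/-!
# S4970, FR-MIX: the case `k` even, `q = 3 mod 4`, main theorem
-/

set_option autoImplicit false

universe u

namespace Cfsg.Agent.H138.FR

open Cfsg Cfsg.Agent.H721.FR Cfsg.Agent.H47.Uni Module
open Cfsg.Agent.H955.FS (FSGood)

theorem ne_inv_of_odd {Γ : Type u} [Group Γ] {u : Γ} (hu1 : u ≠ 1) (huo : Odd (orderOf u)) : u ≠ u⁻¹ := by
  intro h2
  have h3 : u ^ 2 = 1 := by
    rw [pow_two]
    nth_rewrite 1 [h2]
    exact inv_mul_cancel u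
  have h4 : orderOf u ∣ 2 := orderOf_dvd_of_pow_eq_one h3
  rcases (Nat.dvd_prime Nat.prime_two).1 h4 with h5 | h5
  · exact hu1 (orderOf_eq_one_iff.1 h5)
  · rw [h5] at huo
    exact absurd huo (by decide)

section Form

variable {F W : Type u} [Field F] [AddCommGroup W] [Module F W] {β : W →ₗ[F] W →ₗ[F] F} {s : W ≃ₗ[F] W} {τ : F}

/-- `s - s⁻¹` -/
def dl (s : W ≃ₗ[F] W) : W →ₗ[F] W := (s : W →ₗ[F] W) - ((s⁻¹ : W ≃ₗ[F] W) : W →ₗ[F] W)

theorem dl_apply (s : W ≃ₗ[F] W) (x : W) : dl s x = s x - s⁻¹ x := rfl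

/-- the form `β(x, (s - s⁻¹) y)` -/
def bt (β : W →ₗ[F] W →ₗ[F] F) (s : W ≃ₗ[F] W) : W →ₗ[F] W →ₗ[F] F := β.compl₁₂ LinearMap.id (dl s)

theorem bt_apply (x y : W) : bt β s x y = β x (dl s y) := rfl

theorem s_inv (s : W ≃ₗ[F] W) (x : W) : s (s⁻¹ x) = x := s.apply_symm_apply x

theorem inv_s (s : W ≃ₗ[F] W) (x : W) : s⁻¹ (s x) = x := s.symm_apply_apply x

theorem dl_dl (hτ : ∀ x, s x + s⁻¹ x = τ • x) (x : W) : dl s (dl s x) = (τ ^ 2 - 4) • x := by
  have e1 : τ • (τ • x) = s (s x) + s⁻¹ (s⁻¹ x) + (2 : F) • x := by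
    rw [← hτ x, smul_add, ← hτ (s x), ← hτ (s⁻¹ x), s_inv, inv_s, two_smul]
    abel
  have e2 : (τ ^ 2 - 4) • x = τ • (τ • x) - (4 : F) • x := by module
  rw [e2, e1, dl_apply, dl_apply, map_sub, map_sub, s_inv, inv_s]
  module

theorem sq_ne (h1 : τ ≠ 2) (h2 : τ ≠ -2) : τ ^ 2 - 4 ≠ 0 := by
  intro h0
  have : (τ - 2) * (τ + 2) = 0 := by linear_combination h0
  rcases mul_eq_zero.1 this with h3 | h3
  · exact h1 (sub_eq_zero.1 h3)
  · exact h2 (eq_neg_of_add_eq_zero_left h3)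

theorem dl_skew (hs : s ∈ Isom β) (x y : W) : β (dl s x) y = - β x (dl s y) := by
  have e1 : β (s x) y = β x (s⁻¹ y) := by
    have := hs x (s⁻¹ y)
    rwa [s_inv] at this
  have e2 : β (s⁻¹ x) y = β x (s y) := by
    have := hs (s⁻¹ x) y
    rw [s_inv] at this
    exact this.symm
  rw [dl_apply, dl_apply, map_sub, map_sub, LinearMap.sub_apply, e1, e2, neg_sub]

theorem fm_bt (h2 : (2 : F) ≠ 0) (hβ : ∀ x y, β x y = - β y x) (hnd : ∀ x, (∀ y, β x y = 0) → x = 0)
    (hs : s ∈ Isom β) (hτ : ∀ x, s x + s⁻¹ x = τ • x) (h1 : τ ≠ 2) (h1' : τ ≠ -2) : Fm (bt β s) 1 where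
  two := h2
  eps := Or.inl rfl
  symm := fun x y => by rw [bt_apply, bt_apply, one_mul, hβ y, dl_skew hs, neg_neg]
  nondeg := fun x hx => by
    have h3 : dl s x = 0 := hnd _ fun y => by rw [dl_skew hs, ← bt_apply, hx, neg_zero]
    have h4 := dl_dl hτ x
    rw [h3, map_zero] at h4
    exact (smul_eq_zero.1 h4.symm).resolve_left (sq_ne h1 h1')

theorem dl_comm {a : W ≃ₗ[F] W} (ha : a * s * a⁻¹ = s) (x : W) : a (dl s x) = dl s (a x) := by
  have h1 : a * s = s * a := mul_inv_eq_iff_eq_mul.1 ha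
  have h3 : ∀ x, a (s x) = s (a x) := fun x => congrArg (fun f : W ≃ₗ[F] W => f x) h1
  have h4 : a (s⁻¹ x) = s⁻¹ (a x) := by
    apply s.injective
    rw [← h3, s_inv, s_inv]
  rw [dl_apply, dl_apply, map_sub, h3, h4]

theorem dl_anti {a : W ≃ₗ[F] W} (ha : a * s * a⁻¹ = s⁻¹) (x : W) : a (dl s x) = - dl s (a x) := by
  have h1 : a * s = s⁻¹ * a := mul_inv_eq_iff_eq_mul.1 ha
  have h3 : ∀ x, a (s x) = s⁻¹ (a x) := fun x => congrArg (fun f : W ≃ₗ[F] W => f x) h1
  have h4 : a (s⁻¹ x) = s (a x) := by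
    apply s⁻¹.injective
    rw [← h3, s_inv, inv_s]
  rw [dl_apply, dl_apply, map_sub, h3, h4, neg_sub]

theorem bt_isom {a : W ≃ₗ[F] W} (ha : a ∈ Isom β) (has : a * s * a⁻¹ = s) : a ∈ Isom (bt β s) := by
  intro x y
  rw [bt_apply, bt_apply, ← dl_comm has, ha]

theorem bt_anti {a : W ≃ₗ[F] W} (ha : ∀ x y, β (a x) (a y) = - β x y) (has : a * s * a⁻¹ = s⁻¹) :
    a ∈ Isom (bt β s) := by
  intro x y
  have h1 : dl s (a y) = - a (dl s y) := by rw [dl_anti has, neg_neg]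
  rw [bt_apply, bt_apply, h1, map_neg, ha, neg_neg]

/-- conversely -/
theorem of_bt_isom (hτ : ∀ x, s x + s⁻¹ x = τ • x) (h1 : τ ≠ 2) (h1' : τ ≠ -2) {a : W ≃ₗ[F] W}
    (ha : a ∈ Isom (bt β s)) (has : a * s * a⁻¹ = s) : a ∈ Isom β := by
  intro x y
  have h3 := ha x (dl s y)
  rw [bt_apply, bt_apply, dl_dl hτ, ← dl_comm has, dl_dl hτ, map_smul, map_smul, map_smul, smul_eq_mul,
    smul_eq_mul] at h3
  exact mul_left_cancel₀ (sq_ne h1 h1') h3

theorem of_bt_anti (hτ : ∀ x, s x + s⁻¹ x = τ • x) (h1 : τ ≠ 2) (h1' : τ ≠ -2) {a : W ≃ₗ[F] W}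
    (ha : a ∈ Isom (bt β s)) (has : a * s * a⁻¹ = s⁻¹) (x y : W) : β (a x) (a y) = - β x y := by
  have h3 := ha x (dl s y)
  have h4 : dl s (a (dl s y)) = - a (dl s (dl s y)) := by rw [dl_anti has (dl s y), neg_neg]
  rw [bt_apply, bt_apply, h4, dl_dl hτ, map_neg, map_smul, map_smul, map_smul, smul_eq_mul,
    smul_eq_mul] at h3
  apply mul_left_cancel₀ (sq_ne h1 h1')
  linear_combination -h3

/-- an alternating nondegenerate form on a nonzero space: the dimension is at least two -/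
theorem two_le [FiniteDimensional F W] (h2 : (2 : F) ≠ 0) (hβ : ∀ x y, β x y = - β y x)
    (hnd : ∀ x, (∀ y, β x y = 0) → x = 0) (hne : ∃ x : W, x ≠ 0) : 2 ≤ finrank F W := by
  by_contra hcon
  obtain ⟨x, hx⟩ := hne
  have h3 : finrank F W ≤ 1 := by omega
  have halt : ∀ x, β x x = 0 := fun x => by
    have h4 := hβ x x
    exact (mul_eq_zero.1 (show (2 : F) * β x x = 0 by linear_combination h4)).resolve_left h2
  apply hx
  refine hnd x fun y => ?_
  obtain ⟨v, hv⟩ := finrank_le_one_iff.1 h3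
  obtain ⟨a, rfl⟩ := hv x
  obtain ⟨b, rfl⟩ := hv y
  rw [map_smul, map_smul, LinearMap.smul_apply, halt, smul_zero, smul_zero]

end Form

variable {F V : Type u} [Field F] [AddCommGroup V] [Module F V]
  {u : V ≃ₗ[F] V} {k : ℕ} {M : Submodule F V} {B : V →ₗ[F] V →ₗ[F] F} {β : M →ₗ[F] M →ₗ[F] F}
  {tens : (M ≃ₗ[F] M) →* (V ≃ₗ[F] V)} {hh : V ≃ₗ[F] V}

/-- an involution commuting up to sign with an element of odd order commutes with it -/
theorem comm_of_odd (h2 : (2 : F) ≠ 0) {t s : V ≃ₗ[F] V} (hso : Odd (orderOf s)) (hV : ∃ x : V, x ≠ 0)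
    (h : s * t * s⁻¹ = t ∨ s * t * s⁻¹ = t * LinearEquiv.neg F) : s * t * s⁻¹ = t := by
  rcases h with h | h
  · exact h
  exfalso
  have hn : ∀ g : V ≃ₗ[F] V, g * (LinearEquiv.neg F : V ≃ₗ[F] V) = (LinearEquiv.neg F : V ≃ₗ[F] V) * g :=
    Cfsg.Agent.H957.FR.neg_comm
  have key : ∀ n : ℕ, s ^ n * t * (s ^ n)⁻¹ = t * (LinearEquiv.neg F : V ≃ₗ[F] V) ^ n := by
    intro n
    induction n with
    | zero => simp
    | succ n ih =>
      have h3 : s ^ (n + 1) * t * (s ^ (n + 1))⁻¹ = s * (s ^ n * t * (s ^ n)⁻¹) * s⁻¹ := by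
        rw [pow_succ']; group
      have h4 : s * (t * (LinearEquiv.neg F : V ≃ₗ[F] V) ^ n) * s⁻¹ =
          (s * t * s⁻¹) * (s * (LinearEquiv.neg F : V ≃ₗ[F] V) ^ n * s⁻¹) := by group
      have h5 : s * (LinearEquiv.neg F : V ≃ₗ[F] V) ^ n * s⁻¹ = (LinearEquiv.neg F : V ≃ₗ[F] V) ^ n := by
        rw [mul_inv_eq_iff_eq_mul]
        exact ((show Commute s (LinearEquiv.neg F : V ≃ₗ[F] V) from hn s).pow_right n).eq
      rw [h3, ih, h4, h, h5, mul_assoc, ← pow_succ']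
  have h3 := key (orderOf s)
  rw [pow_orderOf_eq_one, one_mul, inv_one, mul_one] at h3
  obtain ⟨j, hj⟩ := hso
  have h4 : (LinearEquiv.neg F : V ≃ₗ[F] V) ^ orderOf s = LinearEquiv.neg F := by
    rw [hj, pow_succ, pow_mul, pow_two, Cfsg.Agent.H957.FR.neg_neg', one_pow, one_mul]
  rw [h4] at h3
  obtain ⟨x, hx⟩ := hV
  have h5 := congrArg (fun f : V ≃ₗ[F] V => f x) h3
  have h6 : t x = t (-x) := h5
  have h7 : x = -x := t.injective h6
  apply hx
  have h8 : (2 : F) • x = 0 := by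
    rw [two_smul]
    nth_rewrite 1 [h7]
    exact neg_add_cancel x
  exact (smul_eq_zero.1 h8).resolve_left h2

/-- **the mixed case, `k` even, `q = 3 mod 4`** -/
theorem mix4 [Finite F] [FiniteDimensional F V] (hN : NFour F M) (hS : Sem2 F M) (hF : Fm B 1) (hk : Even k)
    (hk0 : k ≠ 0) (h : Dt B 1 u k M β tens hh)
    (htm : ∀ (a : M ≃ₗ[F] M) (x : M), tens a (x : V) = (a x : M)) (huB : u ∈ Isom B) (hu1 : u ≠ 1)
    (huo : Odd (orderOf u)) {s : M ≃ₗ[F] M} (hs : s ∈ Isom β) (hso : Odd (orderOf s)) {τ : F}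
    (hτ : ∀ x, s x + s⁻¹ x = τ • x) (h1 : τ ≠ 2) (h1' : τ ≠ -2) {P : Subgroup (V ≃ₗ[F] V)} (hPB : P ≤ Isom B)
    (hP2 : IsPGroup 2 P) (hIn : ∀ g ∈ P, InP k M β tens hh g)
    (hact : ∀ g ∈ P, (g * u * g⁻¹ = u ∧ g * tens s * g⁻¹ = tens s) ∨
      (g * u * g⁻¹ = u⁻¹ ∧ g * tens s * g⁻¹ = (tens s)⁻¹)) (hex : ∃ g ∈ P, g * u * g⁻¹ = u⁻¹) :
    Red B (Subgroup.closure {tens s * u} ⊔ P) ∨ Cov B 1 (tens s * u) P := by
  have hk1 : ((-1 : F)) ^ (k - 1) = -1 := by
    obtain ⟨j, rfl⟩ := hk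
    refine Odd.neg_one_pow ⟨j - 1, ?_⟩
    omega
  have hinj := tens_inj htm
  have hhne := hh_ne h hu1 huo
  have huu := ne_inv_of_odd hu1 huo
  have hβ : ∀ x y, β x y = - β y x := fun x y => by rw [h.sym, hk1]; ring
  -- the elements of `P`
  have hdich : ∀ g ∈ P, (∃ a ∈ Isom β, g = tens a ∧ a * s * a⁻¹ = s) ∨
      (∃ b : M ≃ₗ[F] M, (∀ x y, β (b x) (b y) = - β x y) ∧ g = hh * tens b ∧ b * s * b⁻¹ = s⁻¹) := by
    intro g hg
    rcases hIn g hg with ⟨a, ha, rfl⟩ | ⟨b, hb, rfl⟩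
    · left
      refine ⟨a, ha, rfl, ?_⟩
      have h3 : tens a * u * (tens a)⁻¹ = u := by rw [h.ct, mul_inv_cancel_right]
      rcases hact _ hg with ⟨-, h4⟩ | ⟨h4, -⟩
      · apply hinj
        rw [map_mul, map_mul, map_inv, h4]
      · rw [h3] at h4
        exact absurd h4 huu
    · right
      refine ⟨b, fun x y => by rw [hb, hk1]; ring, rfl, ?_⟩
      have h3 : hh * tens b * u * (hh * tens b)⁻¹ = u⁻¹ := by
        have h4 : hh * tens b * u * (hh * tens b)⁻¹ = hh * (tens b * u * (tens b)⁻¹) * hh⁻¹ := by group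
        rw [h4, h.ct, mul_inv_cancel_right, h.hhc]
      rcases hact _ hg with ⟨h4, -⟩ | ⟨-, h4⟩
      · rw [h3] at h4
        exact absurd h4.symm huu
      · apply hinj
        have h5 : hh * tens b * tens s * (hh * tens b)⁻¹ = hh * tens (b * s * b⁻¹) * hh⁻¹ := by
          rw [map_mul, map_mul, map_inv]; group
        rw [h5, ← h.hht, mul_inv_cancel_right] at h4
        rw [h4, map_inv]
  have hPm : ∀ a ∈ Pm h P, (a ∈ Isom β ∧ a * s * a⁻¹ = s) ∨
      ((∀ x y, β (a x) (a y) = - β x y) ∧ a * s * a⁻¹ = s⁻¹) := by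
    rintro a (ha | ha)
    · rcases hdich _ ha with ⟨a', h3, h4, h5⟩ | ⟨b, -, h4, -⟩
      · rw [hinj h4]
        exact Or.inl ⟨h3, h5⟩
      · exfalso
        apply hhne (a * b⁻¹)
        rw [map_mul, h4, map_inv, mul_inv_cancel_right]
    · rcases hdich _ ha with ⟨a', -, h4, -⟩ | ⟨b, h3, h4, h5⟩
      · exfalso
        apply hhne (a' * a⁻¹)
        rw [map_mul, ← h4, map_inv, mul_inv_cancel_right]
      · have h6 : a = b := hinj (mul_left_cancel h4)
        rw [h6]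
        exact Or.inr ⟨h3, h5⟩
  obtain ⟨b0, hb0, hb0P, hb0s⟩ : ∃ b0 : M ≃ₗ[F] M, (∀ x y, β (b0 x) (b0 y) = - β x y) ∧ hh * tens b0 ∈ P ∧
      b0 * s * b0⁻¹ = s⁻¹ := by
    obtain ⟨g, hg, hgu⟩ := hex
    rcases hdich g hg with ⟨a, -, rfl, -⟩ | ⟨b, h3, rfl, h5⟩
    · rw [h.ct, mul_inv_cancel_right] at hgu
      exact absurd hgu huu
    · exact ⟨b, h3, hg, h5⟩
  have hPP : ∀ g ∈ P, (∃ a ∈ Pm h P, g = tens a) ∨ ∃ a ∈ Pm h P, g = hh * tens a := by
    intro g hg
    rcases hdich g hg with ⟨a, -, rfl, -⟩ | ⟨b, -, rfl, -⟩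
    · exact Or.inl ⟨a, Or.inl hg, rfl⟩
    · exact Or.inr ⟨b, Or.inr hg, rfl⟩
  have hFm := fm_bt hF.two hβ h.nd hs hτ h1 h1'
  have hss : s * s * s⁻¹ = s := mul_inv_cancel_right s s
  have hsB := bt_isom hs hss
  have hPmB : Pm h P ≤ Isom (bt β s) := by
    intro a ha
    rcases hPm a ha with ⟨h3, h4⟩ | ⟨h3, h4⟩
    · exact bt_isom h3 h4
    · exact bt_anti h3 h4
  have hPmc : ∀ a ∈ Pm h P, CI s a := fun a ha => by
    rcases hPm a ha with ⟨-, h4⟩ | ⟨-, h4⟩
    · exact Or.inl h4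
    · exact Or.inr h4
  have hPm2 := Pm_two h htm hP2
  have hb0m : b0 ∈ Pm h P := Or.inr hb0P
  -- `M ≠ 0`
  have hM0 : ∃ x : M, x ≠ 0 := by
    by_contra hcon
    push Not at hcon
    apply hhne 1
    have h3 : ∀ a : M ≃ₗ[F] M, a = 1 := fun a => LinearEquiv.ext fun x => by rw [hcon x, map_zero, map_zero]
    have h4 : ∀ x : V, (-1 : F) • x = x := by
      intro x
      have h5 := h.sm (-1) x
      rw [h3 (LinearEquiv.smulOfUnit (-1)), map_one] at h5
      simpa using h5.symm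
    have h5 : ∀ x : V, x = 0 := by
      intro x
      have h6 := h4 x
      rw [neg_smul, one_smul] at h6
      have h8 : (2 : F) • x = 0 := by
        rw [two_smul]
        nth_rewrite 1 [← h6]
        exact neg_add_cancel x
      exact (smul_eq_zero.1 h8).resolve_left hF.two
    apply LinearEquiv.ext
    intro x
    rw [h5 x, map_zero, map_zero]
  have hM2 := two_le hF.two hβ h.nd hM0
  -- the final step
  have hfinal : (∃ Y : Subgroup (M ≃ₗ[F] M), Y ≤ Isom (bt β s) ∧ s ∈ Y ∧ Pm h P ≤ Y ∧ (∀ y ∈ Y, CI s y) ∧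
      FSGood False Y) → Cov B 1 (tens s * u) P := by
    rintro ⟨Y, hY1, hY2, hY3, hY4, hY5⟩
    refine cov_of_good hk hk0 h huB hY5 hY2 hs ?_ hb0 (hPB hb0P) hPB ?_
    · intro y hy
      rcases hY4 y hy with h3 | h3
      · exact Or.inl (of_bt_isom hτ h1 h1' (hY1 hy) h3)
      · exact Or.inr (of_bt_anti hτ h1 h1' (hY1 hy) h3)
    · intro g hg
      rcases hPP g hg with ⟨a, ha, h3⟩ | ⟨a, ha, h3⟩
      · exact Or.inl ⟨a, hY3 ha, h3⟩
      · exact Or.inr ⟨a, hY3 ha, h3⟩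
  by_cases h3 : 3 ≤ finrank F M
  · rcases hS (bt β s) s (Pm h P) τ hFm h3 hsB hτ h1 h1' hPmB hPm2 hPmc with hR | ⟨h4, h5⟩
    · left
      obtain ⟨t, ht, htt, ht1, htn, htK⟩ := exists_invol_of_red hF.two one_ne_zero hFm.symm (K := Subgroup.closure {s} ⊔ Pm h P) (by
        have hle : Subgroup.closure {s} ⊔ Pm h P ≤ Isom (bt β s) :=
          sup_le ((Subgroup.closure_le _).2 (Set.singleton_subset_iff.2 hsB)) hPmB
        intro g hg
        exact ⟨1, fun x y => by rw [one_mul]; exact hle hg x y⟩) hR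
      have hts : s * t * s⁻¹ = t := comm_of_odd hF.two hso hM0
        (htK s (Subgroup.mem_sup_left (Subgroup.subset_closure rfl)))
      have hts' : t * s * t⁻¹ = s := by
        rw [mul_inv_eq_iff_eq_mul] at hts ⊢
        exact hts.symm
      have htβ := of_bt_isom hτ h1 h1' ht hts'
      have hneg : tens (LinearEquiv.neg F) = LinearEquiv.neg F := by
        rw [neg_eq_smul, h.tens_smul, neg_eq_smul]
      have hpm : ∀ a ∈ Pm h P, tens a * tens t * (tens a)⁻¹ = tens t ∨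
          tens a * tens t * (tens a)⁻¹ = tens t * LinearEquiv.neg F := by
        intro a ha
        rcases htK a (Subgroup.mem_sup_right ha) with h4 | h4
        · left
          rw [← map_mul, ← map_inv, ← map_mul, h4]
        · right
          rw [← map_mul, ← map_inv, ← map_mul, h4, map_mul, hneg]
      refine Cfsg.Agent.H957.FR.red_of_invol hF.two hF.symm hF.nondeg (t := tens t) (h.isom t htβ)
        (by rw [← map_mul, htt, map_one]) (fun h4 => ht1 (hinj (by rw [h4, map_one])))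
        (fun h4 => htn (hinj (by rw [h4, hneg]))) ?_
      -- the set of all `g` with the property is a subgroup
      let Z : Subgroup (V ≃ₗ[F] V) :=
        { carrier := {g | g * tens t * g⁻¹ = tens t ∨ g * tens t * g⁻¹ = tens t * LinearEquiv.neg F}
          one_mem' := Or.inl (by rw [one_mul, inv_one, mul_one])
          mul_mem' := by
            have hn : ∀ g : V ≃ₗ[F] V, g * (LinearEquiv.neg F : V ≃ₗ[F] V) = (LinearEquiv.neg F : V ≃ₗ[F] V) * g :=
              Cfsg.Agent.H957.FR.neg_comm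
            have hnn : (LinearEquiv.neg F : V ≃ₗ[F] V) * (LinearEquiv.neg F : V ≃ₗ[F] V) = 1 :=
              Cfsg.Agent.H957.FR.neg_neg'
            intro a b ha hb
            have e : a * b * tens t * (a * b)⁻¹ = a * (b * tens t * b⁻¹) * a⁻¹ := by group
            have e2 : a * (tens t * LinearEquiv.neg F) * a⁻¹ = (a * tens t * a⁻¹) * LinearEquiv.neg F := by
              have e3 : a * (tens t * LinearEquiv.neg F) * a⁻¹ = a * tens t * (LinearEquiv.neg F * a⁻¹) := by group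
              rw [e3, ← hn a⁻¹]
              group
            rcases hb with hb | hb
            · change a * b * tens t * (a * b)⁻¹ = _ ∨ a * b * tens t * (a * b)⁻¹ = _
              rw [e, hb]
              exact ha
            · change a * b * tens t * (a * b)⁻¹ = _ ∨ a * b * tens t * (a * b)⁻¹ = _
              rw [e, hb, e2]
              rcases ha with ha | ha
              · right
                rw [ha]
              · left
                rw [ha, mul_assoc, hnn, mul_one]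
          inv_mem' := by
            have hn : ∀ g : V ≃ₗ[F] V, g * (LinearEquiv.neg F : V ≃ₗ[F] V) = (LinearEquiv.neg F : V ≃ₗ[F] V) * g :=
              Cfsg.Agent.H957.FR.neg_comm
            have hnn : (LinearEquiv.neg F : V ≃ₗ[F] V) * (LinearEquiv.neg F : V ≃ₗ[F] V) = 1 :=
              Cfsg.Agent.H957.FR.neg_neg'
            rintro a (ha | ha)
            · left
              rw [mul_inv_eq_iff_eq_mul] at ha ⊢
              rw [inv_mul_eq_iff_eq_mul, ← mul_assoc, ha, mul_inv_cancel_right]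
            · right
              rw [mul_inv_eq_iff_eq_mul] at ha
              rw [mul_inv_eq_iff_eq_mul, inv_mul_eq_iff_eq_mul]
              -- t = a t n a⁻¹
              have e3 : a * (tens t * LinearEquiv.neg F * a⁻¹) = (a * tens t) * (LinearEquiv.neg F * a⁻¹) := by group
              rw [e3, ha, ← hn a⁻¹]
              have e4 : tens t * LinearEquiv.neg F * a * (a⁻¹ * LinearEquiv.neg F) =
                  tens t * (LinearEquiv.neg F * LinearEquiv.neg F) := by group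
              rw [e4, hnn, mul_one] }
      have hZ : Subgroup.closure {tens s * u} ⊔ P ≤ Z := by
        refine sup_le ((Subgroup.closure_le _).2 (Set.singleton_subset_iff.2 ?_)) ?_
        · refine Z.mul_mem (Or.inl ?_) (Or.inl ?_)
          · rw [← map_mul, ← map_inv, ← map_mul, hts]
          · rw [← h.ct, mul_inv_cancel_right]
        · intro g hg
          rcases hPP g hg with ⟨a, ha, rfl⟩ | ⟨a, ha, rfl⟩
          · exact hpm a ha
          · refine Z.mul_mem (Or.inl ?_) (hpm a ha)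
            rw [← h.hht, mul_inv_cancel_right]
      exact fun g hg => hZ hg
    · right
      exact hfinal (hN (bt β s) s (Pm h P) τ hFm h4 hsB hτ h5 hPmB hPm2 hPmc)
  · right
    have h4 : finrank F M = 2 := by omega
    obtain ⟨Y, hY1, hY2, hY3, hY4, hY5⟩ := good_two hFm h4 hsB hτ h1 h1' (hPmB hb0m) hb0s
    exact hfinal ⟨Y, hY1, hY2, fun g hg => hY3 g (hPmB hg) (hPmc g hg), hY4, hY5⟩

end Cfsg.Agent.H138.FR
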